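import Mathlib
import Groth.Prelude.Def_MoreMor
import Groth.Prelude.Def_EGA43
import Groth.Agent.Lib.ZarConn
import Groth.Agent.S1297
import Groth.Agent.FlatMisc.SteinUC
import Groth.Agent.Lsc5.Count
import Groth.Agent.MorLib.GeomPts

/-!
# Geometric fibres of the Stein factorisation
-/

set_option autoImplicit false
set_option backward.isDefEq.respectTransparency false
set_option backward.isDefEq.respectTransparency.types false
universe u

open AlgebraicGeometry CategoryTheory CategoryTheory.Limits

namespace Groth.Agent.Stein5

variable {X Y : Scheme.{u}} (f : X ⟶ Y)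

theorem isProper_toNormalization [IsProper f] [IsLocallyNoetherian Y] : IsProper f.toNormalization := by
  haveI : IsFinite f.fromNormalization := Groth.Agent.S1297.result f
  haveI : IsProper (f.toNormalization ≫ f.fromNormalization) := by
    rw [f.toNormalization_fromNormalization]; infer_instance
  exact IsProper.of_comp f.toNormalization f.fromNormalization

theorem geometricallyConnected_toNormalization [IsProper f] [IsLocallyNoetherian Y] :
    GeometricallyConnected f.toNormalization := by
  haveI : IsFinite f.fromNormalization := Groth.Agent.S1297.result f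
  haveI : IsLocallyNoetherian f.normalization := LocallyOfFiniteType.isLocallyNoetherian f.fromNormalization
  haveI := isProper_toNormalization f
  exact ZarConn.geometricallyConnected f.toNormalization (FlatMisc.isIso_toNormalization_app f)

theorem isPullback_geomπ (y : Y) :
    IsPullback (Lsc5.geomπ f y) (pullback.snd (f.fiberToSpecResidueField y) (Lsc5.sepPt y)) f
      (Lsc5.sepPt y ≫ Y.fromSpecResidueField y) :=
  (IsPullback.of_hasPullback (f.fiberToSpecResidueField y) (Lsc5.sepPt y)).paste_horiz
    (IsPullback.of_hasPullback f (Y.fromSpecResidueField y))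

variable {P : Scheme.{u}} (g : X ⟶ P) (h : P ⟶ Y)

/-- Composing with a closed surjection with geometrically connected fibres keeps the number of
geometric connected components. -/
theorem nGeomConnComp_eq [UniversallyClosed g] [GeometricallyConnected g] (hgh : g ≫ h = f) (y : Y) :
    MoreMor.nGeomConnComp f y = MoreMor.nGeomConnComp h y := by
  let j : MoreMor.geomFiber f y ⟶ MoreMor.geomFiber h y :=
    (isPullback_geomπ h y).lift (Lsc5.geomπ f y ≫ g) (pullback.snd (f.fiberToSpecResidueField y) (Lsc5.sepPt y))
      (by rw [Category.assoc, hgh]; exact (isPullback_geomπ f y).w)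
  have h1 : j ≫ Lsc5.geomπ h y = Lsc5.geomπ f y ≫ g := (isPullback_geomπ h y).lift_fst _ _ _
  have h2 := (isPullback_geomπ h y).lift_snd (Lsc5.geomπ f y ≫ g)
      (pullback.snd (f.fiberToSpecResidueField y) (Lsc5.sepPt y))
      (by rw [Category.assoc, hgh]; exact (isPullback_geomπ f y).w)
  have hsq : IsPullback (Lsc5.geomπ f y) j g (Lsc5.geomπ h y) := by
    refine IsPullback.of_bot (v₂₁ := pullback.snd (h.fiberToSpecResidueField y) (Lsc5.sepPt y)) ?_ h1.symm
      (isPullback_geomπ h y)
    rw [h2, hgh]
    exact isPullback_geomπ f y
  haveI : UniversallyClosed j := MorphismProperty.of_isPullback hsq inferInstance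
  haveI : GeometricallyConnected j := MorphismProperty.of_isPullback hsq inferInstance
  have hq : Topology.IsCoinducing j :=
    (j.isClosedMap.isQuotientMap j.continuous j.surjective).isCoinducing
  exact ENat.card_congr (Equiv.ofBijective _
    (hq.connectedComponentsMap_bijective (fun p => Scheme.Hom.isConnected_preimage_singleton j p)))

theorem nGeomConnComp_fromNormalization [IsProper f] [IsLocallyNoetherian Y] (y : Y) :
    MoreMor.nGeomConnComp f y = MoreMor.nGeomConnComp f.fromNormalization y := by
  haveI := isProper_toNormalization f
  haveI := geometricallyConnected_toNormalization f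
  exact nGeomConnComp_eq f f.toNormalization f.fromNormalization f.toNormalization_fromNormalization y

theorem finite_geomFiber [LocallyQuasiFinite f] [QuasiCompact f] (y : Y) :
    Finite ↥(MoreMor.geomFiber f y) := by
  haveI := MorLib.GP.discreteTopology_geomFiber f y
  haveI : QuasiCompact (pullback.snd (f.fiberToSpecResidueField y) (Lsc5.sepPt y)) :=
    MorphismProperty.pullback_snd _ _ (MorphismProperty.pullback_snd _ _ inferInstance)
  haveI : CompactSpace ↥(MoreMor.geomFiber f y) :=
    QuasiCompact.compactSpace_of_compactSpace (pullback.snd (f.fiberToSpecResidueField y) (Lsc5.sepPt y))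
  exact finite_of_compact_of_discrete

theorem nGeomConnComp_lt_top [LocallyQuasiFinite f] [QuasiCompact f] (y : Y) :
    MoreMor.nGeomConnComp f y < ⊤ := by
  haveI := finite_geomFiber f y
  haveI : Finite (_root_.ConnectedComponents ↥(MoreMor.geomFiber f y)) :=
    Finite.of_surjective _ ConnectedComponents.surjective_coe
  rw [MoreMor.nGeomConnComp, ENat.card_eq_coe_natCard]
  exact ENat.coe_lt_top _

/-- Universal openness descends along a surjection on the source. -/
theorem isUnivOpenAt_of_comp [Surjective g] (hgh : g ≫ h = f) (p : P)
    (hx : ∀ x : X, g.base x = p → EGA43.IsUnivOpenAt f x) : EGA43.IsUnivOpenAt h p := by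
  intro Y' e p' hp' N hN
  let g' : pullback f e ⟶ pullback h e := pullback.lift (pullback.fst f e ≫ g) (pullback.snd f e)
    (by rw [Category.assoc, hgh, pullback.condition])
  have h1 : g' ≫ pullback.fst h e = pullback.fst f e ≫ g := pullback.lift_fst _ _ _
  have h2 : g' ≫ pullback.snd h e = pullback.snd f e := pullback.lift_snd _ _ _
  have hsq : IsPullback (pullback.fst f e) g' g (pullback.fst h e) := by
    refine IsPullback.of_bot (v₂₁ := pullback.snd h e) ?_ h1.symm (IsPullback.of_hasPullback h e)
    rw [h2, hgh]
    exact IsPullback.of_hasPullback f e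
  haveI : Surjective g' := MorphismProperty.of_isPullback hsq inferInstance
  obtain ⟨q, rfl⟩ := g'.surjective p'
  have hq : g.base ((pullback.fst f e).base q) = p := by
    rw [← hp', ← Scheme.Hom.comp_apply, ← Scheme.Hom.comp_apply, h1]
  have := hx _ hq Y' e q rfl (g'.base ⁻¹' N) (g'.continuous.continuousAt hN)
  have he : (pullback.snd h e).base (g'.base q) = (pullback.snd f e).base q := by
    rw [← Scheme.Hom.comp_apply, h2]
  rw [he]
  refine Filter.mem_of_superset this ?_
  rintro _ ⟨w, hw, rfl⟩
  exact ⟨g'.base w, hw, by rw [← Scheme.Hom.comp_apply, h2]⟩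

theorem isUnivOpenAt_fromNormalization [IsProper f] [IsLocallyNoetherian Y] (y : Y)
    (hy : ∀ x : X, f.base x = y → EGA43.IsUnivOpenAt f x) (p : f.normalization)
    (hp : f.fromNormalization.base p = y) : EGA43.IsUnivOpenAt f.fromNormalization p := by
  haveI := geometricallyConnected_toNormalization f
  refine isUnivOpenAt_of_comp f f.toNormalization f.fromNormalization f.toNormalization_fromNormalization p
    fun x hx => hy x ?_
  rw [← hp, ← hx, ← Scheme.Hom.comp_apply, f.toNormalization_fromNormalization]

end Groth.Agent.Stein5
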