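import Mathlib
import Groth.Prelude.Def_MoreMor
import Groth.Agent.GeomField.Connected

/-!
# One geometric connected component
-/

set_option autoImplicit false
set_option backward.isDefEq.respectTransparency false
set_option backward.isDefEq.respectTransparency.types false
universe u

open AlgebraicGeometry CategoryTheory CategoryTheory.Limits

namespace Groth.Agent.Stein5

variable {X Y : Scheme.{u}} (f : X ⟶ Y) (y : Y)

theorem geometricallyConnected_fibre_of_one (h : MoreMor.nGeomConnComp f y = 1) :
    GeometricallyConnected (f.fiberToSpecResidueField y) := by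
  letI : (f.fiber y).Over (Spec (CommRingCat.of (Y.residueField y))) := ⟨f.fiberToSpecResidueField y⟩
  have h' : ENat.card (_root_.ConnectedComponents ↥(MoreMor.geomFiber f y)) = 1 := h
  obtain ⟨⟨c⟩, _⟩ : Nonempty (_root_.ConnectedComponents ↥(MoreMor.geomFiber f y)) ∧
      Subsingleton (_root_.ConnectedComponents ↥(MoreMor.geomFiber f y)) := by
    obtain ⟨u⟩ := ENat.card_eq_one_iff_unique.1 h'
    exact ⟨⟨u.default⟩, ⟨fun a b => (u.uniq a).trans (u.uniq b).symm⟩⟩
  obtain ⟨p, -⟩ := ConnectedComponents.surjective_coe c
  haveI hc : ConnectedSpace ↥(MoreMor.geomFiber f y) := by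
    haveI : PreconnectedSpace ↥(MoreMor.geomFiber f y) := ⟨by
      rw [show (Set.univ : Set ↥(MoreMor.geomFiber f y)) = connectedComponent p from
        (Set.eq_univ_of_forall fun z => ConnectedComponents.coe_eq_coe'.mp (Subsingleton.elim _ _)).symm]
      exact isPreconnected_connectedComponent⟩
    exact ⟨⟨p⟩⟩
  exact GeomField.geometricallyConnected_of_separableClosure (k := Y.residueField y) (X := f.fiber y) hc

theorem one_of_geometricallyConnected [GeometricallyConnected (f.fiberToSpecResidueField y)] :
    MoreMor.nGeomConnComp f y = 1 := by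
  haveI hc : ConnectedSpace ↥(MoreMor.geomFiber f y) :=
    GeometricallyConnected.geometrically_connectedSpace (f := f.fiberToSpecResidueField y) _ _ _
      (.of_hasPullback _ _)
  obtain ⟨p⟩ := hc.toNonempty
  haveI : Subsingleton (_root_.ConnectedComponents ↥(MoreMor.geomFiber f y)) := inferInstance
  haveI : Nonempty (_root_.ConnectedComponents ↥(MoreMor.geomFiber f y)) := ⟨ConnectedComponents.mk p⟩
  exact ENat.card_eq_one_iff_unique.2 ⟨{ default := ConnectedComponents.mk p, uniq := fun a => Subsingleton.elim _ _ }⟩

theorem one_le_of_nonempty (hy : ∃ x : X, f x = y) : 1 ≤ MoreMor.nGeomConnComp f y := by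
  obtain ⟨x, hx⟩ := hy
  have : Nonempty ↥(MoreMor.geomFiber f y) := by
    obtain ⟨w, rfl⟩ : x ∈ Set.range (f.fiberι y) := by rw [Scheme.Hom.range_fiberι]; exact hx
    obtain ⟨a, -⟩ := Scheme.Pullback.exists_preimage_pullback (f := f.fiberToSpecResidueField y)
      (g := Spec.map (CommRingCat.ofHom (algebraMap (Y.residueField y) (SeparableClosure (Y.residueField y)))))
      w default (Subsingleton.elim _ _)
    exact ⟨a⟩
  exact ENat.one_le_card_iff_nonempty _ |>.2 (this.map ConnectedComponents.mk)

end Groth.Agent.Stein5
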