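import Mathlib
import Groth.Prelude.Def_MoreMor
import Groth.Prelude.Def_EGA43
import Groth.Agent.Lib.ZarConn
import Groth.Agent.Proj16.DVRFg
import Groth.Agent.S3417
import Groth.Agent.FibDim.Comp
import Groth.Agent.GeomSep.Basic

/-!
# Connectedness of nearby fibres of a piece with geometrically connected and reduced special fibre
-/

set_option autoImplicit false
set_option backward.isDefEq.respectTransparency false
set_option backward.isDefEq.respectTransparency.types false
set_option maxHeartbeats 1000000
universe u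

open AlgebraicGeometry CategoryTheory CategoryTheory.Limits

namespace Groth.Agent.Stein5

theorem exists_field_over {K L M : Type u} [Field K] [Field L] [Field M] [Algebra K L] [Algebra K M] :
    ∃ (E : Type u) (_ : Field E) (a : L →+* E) (b : M →+* E),
      a.comp (algebraMap K L) = b.comp (algebraMap K M) := by
  let T := TensorProduct K L M
  obtain ⟨m, hm⟩ := Ideal.exists_maximal T
  letI : Field (T ⧸ m) := Ideal.Quotient.field m
  refine ⟨T ⧸ m, inferInstance, (Ideal.Quotient.mk m).comp Algebra.TensorProduct.includeLeftRingHom,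
    (Ideal.Quotient.mk m).comp Algebra.TensorProduct.includeRight.toRingHom, RingHom.ext fun k => ?_⟩
  show Ideal.Quotient.mk m _ = Ideal.Quotient.mk m _
  congr 1
  show (algebraMap K L k) ⊗ₜ[K] (1 : M) = (1 : L) ⊗ₜ[K] algebraMap K M k
  rw [Algebra.algebraMap_eq_smul_one, Algebra.algebraMap_eq_smul_one, TensorProduct.smul_tmul]

theorem point_Spec {K : Type u} [Field K] {X : Scheme.{u}} (x : X) (φ : X.residueField x ⟶ CommRingCat.of K) (p : ↥(Spec (CommRingCat.of K))) :
    (Spec.map φ ≫ X.fromSpecResidueField x) p = x := by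
  rw [Scheme.Hom.comp_apply, Scheme.fromSpecResidueField_apply]

theorem exists_eq_Spec {K : Type u} [Field K] {X : Scheme.{u}} (t : Spec (CommRingCat.of K) ⟶ X) {x : X}
    (hx : t (IsLocalRing.closedPoint K) = x) :
    ∃ φ : X.residueField x ⟶ CommRingCat.of K, Spec.map φ ≫ X.fromSpecResidueField x = t := by
  obtain ⟨⟨x', φ⟩, rfl⟩ := (Scheme.SpecToEquivOfField K X).symm.surjective t
  have h : x' = x := (point_Spec x' φ _).symm.trans hx
  subst h
  exact ⟨φ, rfl⟩

/-- A pullback to a field with a unique rational lift has at most one point. -/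
theorem subsingleton_pullback_of_unique {P U : Scheme.{u}} (h : P ⟶ U) {K : Type u} [Field K]
    (t : Spec (CommRingCat.of K) ⟶ U)
    (huniq : ∀ (E : Type u) [Field E] (α β : Spec (CommRingCat.of E) ⟶ P)
      (s : Spec (CommRingCat.of E) ⟶ Spec (CommRingCat.of K)), α ≫ h = s ≫ t → β ≫ h = s ≫ t → α = β) :
    Subsingleton ↥(pullback h t) := by
  refine ⟨fun a b => ?_⟩
  let Q := pullback h t
  obtain ⟨φa, hφa⟩ := Spec.map_surjective (Q.fromSpecResidueField a ≫ pullback.snd h t)
  obtain ⟨φb, hφb⟩ := Spec.map_surjective (Q.fromSpecResidueField b ≫ pullback.snd h t)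
  letI : Algebra K (Q.residueField a) := φa.hom.toAlgebra
  letI : Algebra K (Q.residueField b) := φb.hom.toAlgebra
  obtain ⟨E, _, ea, eb, he⟩ := exists_field_over (K := K) (L := Q.residueField a) (M := Q.residueField b)
  have hfa : φa ≫ CommRingCat.ofHom ea = φb ≫ CommRingCat.ofHom eb := by ext k; exact RingHom.congr_fun he k
  let α := Spec.map (CommRingCat.ofHom ea) ≫ Q.fromSpecResidueField a
  let β := Spec.map (CommRingCat.ofHom eb) ≫ Q.fromSpecResidueField b
  have hs : α ≫ pullback.snd h t = β ≫ pullback.snd h t := by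
    simp only [α, β, Category.assoc, ← hφa, ← hφb, ← Spec.map_comp, hfa]
  have hf : α ≫ pullback.fst h t = β ≫ pullback.fst h t := by
    refine huniq E _ _ (α ≫ pullback.snd h t)
      ((Category.assoc _ _ _).trans ((congrArg (α ≫ ·) pullback.condition).trans (Category.assoc _ _ _).symm)) ?_
    rw [Category.assoc, pullback.condition, ← Category.assoc, hs]
  have hαβ : α = β := pullback.hom_ext hf hs
  have h1 : α (IsLocalRing.closedPoint E) = a := point_Spec a _ _
  have h2 : β (IsLocalRing.closedPoint E) = b := point_Spec b _ _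
  rw [← h1, hαβ, h2]

/-- A single purely inseparable point gives radicial fibre. -/
theorem subsingleton_of_point {P U : Scheme.{u}} (h : P ⟶ U) {u : U} (v : P) (hv : h v = u)
    (huniq : ∀ p : P, h p = u → p = v)
    (hpi : letI := (h.residueFieldMap v).hom.toAlgebra
      IsPurelyInseparable (U.residueField (h v)) (P.residueField v))
    (K : Type u) [Field K] (t : Spec (CommRingCat.of K) ⟶ U) (ht : t (IsLocalRing.closedPoint K) = u) :
    Subsingleton ↥(pullback h t) := by
  refine subsingleton_pullback_of_unique h t fun E _ α β s hα hβ => ?_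
  have hpt : ∀ γ : Spec (CommRingCat.of E) ⟶ P, γ ≫ h = s ≫ t → γ (IsLocalRing.closedPoint E) = v := by
    intro γ hγ
    refine huniq _ ?_
    rw [← Scheme.Hom.comp_apply, hγ, Scheme.Hom.comp_apply, Subsingleton.elim (s (IsLocalRing.closedPoint E)) (IsLocalRing.closedPoint K)]
    exact ht
  obtain ⟨φ, rfl⟩ := exists_eq_Spec α (hpt α hα)
  obtain ⟨ψ, rfl⟩ := exists_eq_Spec β (hpt β hβ)
  have heq := hα.trans hβ.symm
  rw [Category.assoc, Category.assoc, ← Scheme.Hom.SpecMap_residueFieldMap_fromSpecResidueField,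
    ← Category.assoc, ← Category.assoc, ← Spec.map_comp, ← Spec.map_comp, cancel_mono] at heq
  have h2 := congrArg CommRingCat.Hom.hom (Spec.map_injective heq)
  letI := (h.residueFieldMap v).hom.toAlgebra
  haveI := hpi
  congr 2
  ext1
  exact IsPurelyInseparable.injective_comp_algebraMap (U.residueField (h v)) (P.residueField v) E h2

/-- Two lifts agree when the pullback has one point and is radicial. -/
theorem eq_of_subsingleton_of_diagonal {P U : Scheme.{u}} (h : P ⟶ U) [IsSeparated h] {K : Type u} [Field K]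
    (α β : Spec (CommRingCat.of K) ⟶ P) (hαβ : α ≫ h = β ≫ h)
    (hd : pullback.lift α β hαβ (IsLocalRing.closedPoint K) ∈ Set.range (pullback.diagonal h)) : α = β := by
  let l := pullback.lift α β hαβ
  haveI : Surjective (pullback.snd (pullback.diagonal h) l) := ⟨fun x => by
    have hx : x ∈ Set.range (pullback.snd (pullback.diagonal h) l) := by
      rw [Scheme.Pullback.range_snd, Subsingleton.elim x (IsLocalRing.closedPoint K)]
      exact hd
    exact hx⟩
  haveI : IsIso (pullback.snd (pullback.diagonal h) l) := isIso_of_isClosedImmersion_of_surjective _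
  have hl : l = (inv (pullback.snd (pullback.diagonal h) l) ≫ pullback.fst _ _) ≫ pullback.diagonal h := by
    rw [Category.assoc, pullback.condition, ← Category.assoc, IsIso.inv_hom_id, Category.id_comp]
  have h1 : l ≫ pullback.fst h h = α := pullback.lift_fst _ _ _
  have h2 : l ≫ pullback.snd h h = β := pullback.lift_snd _ _ _
  rw [← h1, ← h2, hl]
  simp [pullback.diagonal_fst, pullback.diagonal_snd]

/-- A one-point scheme over a field has at most one rational point. -/
theorem sections_eq {K : Type u} [Field K] {Q : Scheme.{u}} [Subsingleton ↥Q] (q : Q ⟶ Spec (CommRingCat.of K))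
    (α β : Spec (CommRingCat.of K) ⟶ Q) (hα : α ≫ q = 𝟙 _) (hβ : β ≫ q = 𝟙 _) : α = β := by
  obtain ⟨x, hx⟩ : ∃ x, α (IsLocalRing.closedPoint K) = x := ⟨_, rfl⟩
  obtain ⟨φ, rfl⟩ := exists_eq_Spec α hx
  obtain ⟨φ', rfl⟩ := exists_eq_Spec β (x := x) (Subsingleton.elim _ _)
  obtain ⟨ψ, hψ⟩ := Spec.map_surjective (Q.fromSpecResidueField x ≫ q)
  rw [Category.assoc, ← hψ, ← Spec.map_comp, ← Spec.map_id] at hα hβ
  have h1 : ∀ r, φ.hom (ψ.hom r) = r := fun r => congr($(Spec.map_injective hα).hom r)
  have h2 : ∀ r, φ'.hom (ψ.hom r) = r := fun r => congr($(Spec.map_injective hβ).hom r)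
  congr 2
  ext a
  have ha : ψ.hom (φ.hom a) = a := φ.hom.injective (h1 _)
  show φ.hom a = φ'.hom a
  conv_rhs => rw [← ha]
  exact (h2 _).symm

/-- The residue field of a generization is essentially of finite type over the local ring. -/
theorem essFiniteType_stalk_to_residueField {U : Scheme.{u}} {η u : U} (hη : η ⤳ u) :
    (U.presheaf.stalkSpecializes hη ≫ U.residue η).hom.EssFiniteType := by
  obtain ⟨V, hV, huV, -⟩ := exists_isAffineOpen_mem_and_subset (X := U) (x := u) (U := ⊤) trivial
  have hηV : η ∈ V := hη.mem_open V.2 huV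
  let a := U.presheaf.germ V u huV
  let b := U.presheaf.germ V η hηV
  have hab : a ≫ U.presheaf.stalkSpecializes hη = b := U.presheaf.germ_stalkSpecializes huV hη
  letI : Algebra Γ(U, V) (U.presheaf.stalk η) := b.hom.toAlgebra
  haveI : Algebra.EssFiniteType Γ(U, V) (U.presheaf.stalk η) := by
    have := hV.isLocalization_stalk ⟨η, hηV⟩
    exact Algebra.EssFiniteType.of_isLocalization (M := (hV.primeIdealOf ⟨η, hηV⟩).asIdeal.primeCompl) _
  letI : Algebra Γ(U, V) (U.residueField η) := ((U.residue η).hom.comp b.hom).toAlgebra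
  haveI : Algebra.EssFiniteType Γ(U, V) (U.residueField η) :=
    Algebra.EssFiniteType.of_surjective
      (⟨(U.residue η).hom, fun _ => rfl⟩ : U.presheaf.stalk η →ₐ[Γ(U, V)] U.residueField η)
      (U.residue_surjective η)
  letI : Algebra Γ(U, V) (U.presheaf.stalk u) := a.hom.toAlgebra
  letI : Algebra (U.presheaf.stalk u) (U.residueField η) :=
    (U.presheaf.stalkSpecializes hη ≫ U.residue η).hom.toAlgebra
  haveI : IsScalarTower Γ(U, V) (U.presheaf.stalk u) (U.residueField η) := .of_algebraMap_eq fun r =>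
    (congr(U.residue η ($(hab) r))).symm
  exact Algebra.EssFiniteType.of_comp Γ(U, V) (U.presheaf.stalk u) (U.residueField η)

theorem isUnivOpenAt_bc {X Y Y' : Scheme.{u}} (f : X ⟶ Y) (e : Y' ⟶ Y) (x' : ↥(pullback f e))
    (h : EGA43.IsUnivOpenAt f ((pullback.fst f e).base x')) : EGA43.IsUnivOpenAt (pullback.snd f e) x' := by
  intro Y'' e' z hz N hN
  let ε : pullback (pullback.snd f e) e' ≅ pullback f (e' ≫ e) := pullbackLeftPullbackSndIso f e e'
  have h1 : ε.hom ≫ pullback.snd f (e' ≫ e) = pullback.snd (pullback.snd f e) e' :=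
    pullbackLeftPullbackSndIso_hom_snd f e e'
  have h2 : ε.hom ≫ pullback.fst f (e' ≫ e) = pullback.fst (pullback.snd f e) e' ≫ pullback.fst f e :=
    pullbackLeftPullbackSndIso_hom_fst f e e'
  have hq : (pullback.fst f (e' ≫ e)).base (ε.hom.base z) = (pullback.fst f e).base x' := by
    rw [← Scheme.Hom.comp_apply, h2, Scheme.Hom.comp_apply, hz]
  have := h Y'' (e' ≫ e) (ε.hom.base z) hq (ε.hom.base '' N)
    (ε.hom.homeomorph.isOpenMap.image_mem_nhds hN)
  have he : (pullback.snd f (e' ≫ e)).base (ε.hom.base z) = (pullback.snd (pullback.snd f e) e').base z := by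
    rw [← Scheme.Hom.comp_apply, h1]
  rw [he, ← Set.image_comp] at this
  refine Filter.mem_of_superset this ?_
  rintro _ ⟨w, hw, rfl⟩
  exact ⟨w, hw, by rw [Function.comp_apply, ← Scheme.Hom.comp_apply, h1]⟩

theorem isOpenAt_of_univ {X Y Y' : Scheme.{u}} (f : X ⟶ Y) (e : Y' ⟶ Y) (x' : ↥(pullback f e))
    (h : EGA43.IsUnivOpenAt f ((pullback.fst f e).base x')) : EGA43.IsOpenAt (pullback.snd f e).base x' :=
  h Y' e x' rfl

section

variable {Z P U : Scheme.{u}} [IsLocallyNoetherian U] (g : Z ⟶ P) (h : P ⟶ U) [IsFinite h] [IsProper g]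
  [GeometricallyConnected g] (u : U)

/-- The hypotheses at the special point. -/
structure SpecialFibre : Prop where
  openAt : ∀ z : Z, (g ≫ h) z = u → EGA43.IsUnivOpenAt (g ≫ h) z
  reduced : ∀ (K : Type u) [Field K] (t : Spec (CommRingCat.of K) ⟶ U), t (IsLocalRing.closedPoint K) = u →
    IsReduced (pullback (g ≫ h) t)
  radicial : ∀ (K : Type u) [Field K] (t : Spec (CommRingCat.of K) ⟶ U), t (IsLocalRing.closedPoint K) = u →
    Subsingleton ↥(pullback h t)
  nonempty : ∃ p : P, h p = u

variable {g h u}

omit [IsLocallyNoetherian U] [IsFinite h] [IsProper g] in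
theorem connectedSpace_of_special (S : SpecialFibre g h u) (K : Type u) [Field K]
    (t : Spec (CommRingCat.of K) ⟶ U) (ht : t (IsLocalRing.closedPoint K) = u) :
    ConnectedSpace ↥(pullback (g ≫ h) t) := by
  haveI := S.radicial K t ht
  haveI : Nonempty ↥(pullback h t) := by
    obtain ⟨p, hp⟩ := S.nonempty
    obtain ⟨z, -⟩ := Scheme.Pullback.exists_preimage_pullback (f := h) (g := t) p (IsLocalRing.closedPoint K) (by rw [hp, ht])
    exact ⟨z⟩
  let j := pullback.snd g (pullback.fst h t)
  haveI : ConnectedSpace ↥(pullback g (pullback.fst h t)) :=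
    GeometricallyConnected.connectedSpace_of_subsingleton (f := j)
  exact (pullbackRightPullbackFstIso h t g).hom.homeomorph.connectedSpace_iff.mp inferInstance

theorem geometricallyConnected_generization (S : SpecialFibre g h u) {η : U} (hη : η ⤳ u) (hne : η ≠ u) :
    GeometricallyConnected ((g ≫ h).fiberToSpecResidueField η) := by
  classical
  let F := g ≫ h
  haveI : IsProper F := inferInstanceAs (IsProper (g ≫ h))
  letI : (F.fiber η).Over (Spec (CommRingCat.of (U.residueField η))) := ⟨F.fiberToSpecResidueField η⟩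
  refine GeomField.geometricallyConnected_of_finiteSeparable (k := U.residueField η) (X := F.fiber η)
    fun L _ _ _ _ => ?_
  let O := U.presheaf.stalk u
  let χ : U.presheaf.stalk u ⟶ CommRingCat.of L :=
    (U.presheaf.stalkSpecializes hη ≫ U.residue η) ≫ CommRingCat.ofHom (algebraMap (U.residueField η) L)
  let w : Spec (CommRingCat.of L) ⟶ U :=
    Spec.map (CommRingCat.ofHom (algebraMap (U.residueField η) L)) ≫ U.fromSpecResidueField η
  have hwχ : Spec.map χ ≫ U.fromSpecStalk u = w := by
    simp only [χ, w, Spec.map_comp, Category.assoc, Scheme.SpecMap_stalkSpecializes_fromSpecStalk,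
      Scheme.fromSpecResidueField]
  have hwη : w (IsLocalRing.closedPoint L) = η := point_Spec η _ _
  letI : Algebra O (U.residueField η) := (U.presheaf.stalkSpecializes hη ≫ U.residue η).hom.toAlgebra
  letI : Algebra O L := χ.hom.toAlgebra
  haveI : IsScalarTower O (U.residueField η) L := .of_algebraMap_eq fun r => rfl
  haveI : Algebra.EssFiniteType O (U.residueField η) := essFiniteType_stalk_to_residueField hη
  haveI : Algebra.EssFiniteType (U.residueField η) L := inferInstance
  haveI : Algebra.EssFiniteType O L := Algebra.EssFiniteType.comp O (U.residueField η) L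
  have hnz : ∃ a ∈ IsLocalRing.maximalIdeal O, algebraMap O L a ≠ 0 := by
    by_contra hall
    push Not at hall
    haveI : IsLocalHom χ.hom := ⟨fun a ha => by
      by_contra hau
      exact ha.ne_zero (hall a ((IsLocalRing.mem_maximalIdeal _).2 hau))⟩
    refine hne ?_
    rw [← hwη, ← hwχ, Scheme.Hom.comp_apply, Spec_closedPoint, Scheme.fromSpecStalk_closedPoint]
  obtain ⟨V, hVd, hV, hloc⟩ := Proj16.exists_dvr_dominating O L hnz
  let φ : U.presheaf.stalk u ⟶ CommRingCat.of V := CommRingCat.ofHom ((algebraMap O L).codRestrict V.toSubring hV)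
  haveI : IsLocalHom φ.hom := hloc
  let tV : Spec (CommRingCat.of V) ⟶ U := Spec.map φ ≫ U.fromSpecStalk u
  let ι : CommRingCat.of V ⟶ CommRingCat.of L := CommRingCat.ofHom (algebraMap V L)
  have hι : Spec.map ι ≫ tV = w := by
    rw [← hwχ, ← Category.assoc, ← Spec.map_comp]
    rfl
  let c : Spec (CommRingCat.of V) := IsLocalRing.closedPoint V
  let b : Spec (CommRingCat.of V) := (⟨⊥, Ideal.isPrime_bot⟩ : PrimeSpectrum V)
  have htVc : tV c = u := by
    show (Spec.map φ ≫ U.fromSpecStalk u) (IsLocalRing.closedPoint V) = u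
    rw [Scheme.Hom.comp_apply, Spec_closedPoint, Scheme.fromSpecStalk_closedPoint]
  let q := pullback.snd F tV
  haveI : IsProper q := MorphismProperty.pullback_snd _ _ inferInstance
  -- the closed fibre
  let tc := (Spec (CommRingCat.of V)).fromSpecResidueField c ≫ tV
  have htc : tc (IsLocalRing.closedPoint ((Spec (CommRingCat.of V)).residueField c)) = u := by
    rw [Scheme.Hom.comp_apply, Scheme.fromSpecResidueField_apply, htVc]
  let εc := pullbackLeftPullbackSndIso F tV ((Spec (CommRingCat.of V)).fromSpecResidueField c)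
  haveI : IsReduced (pullback F tc) := S.reduced _ tc htc
  haveI : IsReduced (q.fiber c) := isReduced_of_isOpenImmersion εc.hom
  haveI : ConnectedSpace ↥(q.fiber c) :=
    εc.hom.homeomorph.connectedSpace_iff.mpr (connectedSpace_of_special S _ tc htc)
  have hc : IsClosed ({c} : Set ↥(Spec (CommRingCat.of V))) :=
    (PrimeSpectrum.isClosed_singleton_iff_isMaximal _).2 (IsLocalRing.maximalIdeal.isMaximal V)
  have hcases : ∀ t : Spec (CommRingCat.of V), t = b ∨ t = c := fun t => by
    by_cases h0 : (t : PrimeSpectrum V).asIdeal = ⊥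
    · exact Or.inl (PrimeSpectrum.ext h0)
    · exact Or.inr (PrimeSpectrum.ext (IsLocalRing.eq_maximalIdeal ((t : PrimeSpectrum V).2.isMaximal h0)))
  have hspec : ∀ t : Spec (CommRingCat.of V), t ⤳ c := fun t => IsLocalRing.specializes_closedPoint t
  have hbgen : ∀ t : Spec (CommRingCat.of V), b ⤳ t := fun t =>
    (PrimeSpectrum.le_iff_specializes (⟨⊥, Ideal.isPrime_bot⟩ : PrimeSpectrum V) t).1 bot_le
  have hfull : ∀ O' : Set ↥(pullback F tV), IsOpen O' → (∃ x ∈ O', q x = c) → ∀ t, t ∈ q.base '' O' := by
    rintro O' hO' ⟨x, hx, hqx⟩ t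
    have hxu : F ((pullback.fst F tV).base x) = u := by
      rw [← Scheme.Hom.comp_apply, pullback.condition, Scheme.Hom.comp_apply, ← htVc]
      exact congrArg tV.base hqx
    have hn := isOpenAt_of_univ F tV x (S.openAt _ hxu) O' (hO'.mem_nhds hx)
    obtain ⟨W, hWs, hW, hcW⟩ := mem_nhds_iff.1 hn
    exact hWs ((hspec t).mem_open hW (hqx ▸ hcW))
  have hopen : IsOpenMap q.base := by
    intro O' hO'
    by_cases hx : ∃ x ∈ O', q x = c
    · rw [Set.eq_univ_of_forall (hfull O' hO' hx)]
      exact isOpen_univ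
    · by_cases he : O'.Nonempty
      · have : q.base '' O' = {c}ᶜ := by
          ext t
          refine ⟨?_, fun ht => ?_⟩
          · rintro ⟨x, hx', rfl⟩ hqc
            exact hx ⟨x, hx', hqc⟩
          · obtain ⟨x, hx'⟩ := he
            refine ⟨x, hx', ?_⟩
            rcases hcases (q x) with h1 | h1
            · rcases hcases t with h2 | h2
              · exact h1.trans h2.symm
              · exact absurd h2 ht
            · exact absurd ⟨x, hx', h1⟩ hx
        rw [this]
        exact hc.isOpen_compl
      · rw [Set.not_nonempty_iff_eq_empty.1 he, Set.image_empty]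
        exact isOpen_empty
  have hmeet : ∀ C : Set ↥(pullback F tV), IsClosed C → C.Nonempty → ∃ x ∈ C, q x = c := by
    intro C hC ⟨x, hx⟩
    obtain ⟨y, hy, hyc⟩ := (hspec (q x)).mem_closed (q.isClosedMap C hC) ⟨x, hx, rfl⟩
    exact ⟨y, hy, hyc⟩
  have hfib : _root_.IsConnected (q ⁻¹' {c}) := by
    rw [← q.range_fiberι, ← Set.image_univ]
    exact isConnected_univ.image _ (q.fiberι c).continuous.continuousOn
  haveI : PreconnectedSpace ↥(pullback F tV) := by
    refine preconnectedSpace_iff_clopen.mpr fun A hA => ?_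
    by_contra hcon
    push Not at hcon
    obtain ⟨x, hxA, hxc⟩ := hmeet A hA.isClosed hcon.1
    obtain ⟨y, hyA, hyc⟩ := hmeet Aᶜ hA.compl.isClosed (Set.nonempty_compl.2 hcon.2)
    exact hyA ((hfib.isPreconnected.subset_isClopen hA ⟨x, hxc, hxA⟩) hyc)
  have hgen := Groth.Agent.S3417.result V q hopen c b hc hbgen inferInstance
  -- compare with the base change to `L`
  haveI : IsFractionRing V L := inferInstance
  haveI : IsPreimmersion (Spec.map ι) := IsPreimmersion.of_isLocalization (R := V) (S := L) (nonZeroDivisors V)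
  have hrι : Set.range (Spec.map ι) = {b} := by
    ext t
    refine ⟨?_, fun ht => ⟨IsLocalRing.closedPoint L, ?_⟩⟩
    · rintro ⟨p, rfl⟩
      refine PrimeSpectrum.ext ?_
      show Ideal.comap (algebraMap V L) (p : PrimeSpectrum L).asIdeal = ⊥
      rw [Ideal.eq_bot_of_prime (p : PrimeSpectrum L).asIdeal]
      exact Ideal.comap_bot_of_injective _ (IsFractionRing.injective V L)
    · rw [Set.mem_singleton_iff] at ht
      subst ht
      refine PrimeSpectrum.ext ?_
      show Ideal.comap (algebraMap V L) (IsLocalRing.maximalIdeal L) = ⊥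
      rw [IsLocalRing.maximalIdeal_eq_bot]
      exact Ideal.comap_bot_of_injective _ (IsFractionRing.injective V L)
  let k := pullback.fst q (Spec.map ι)
  have hk : Set.range k = q ⁻¹' {b} := by rw [Scheme.Pullback.range_fst, hrι]
  obtain ⟨z, hz, hzc⟩ : ∃ z : ↥(pullback F tV), z ∈ (Set.univ : Set _) ∧ q z = c :=
    hfib.1.imp fun z hz => ⟨trivial, hz⟩
  have hconn : ConnectedSpace ↥(pullback q (Spec.map ι)) := by
    haveI := hgen
    have h1 : _root_.IsPreconnected (q ⁻¹' {b}) := by
      rw [← q.range_fiberι, ← Set.image_univ]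
      exact isPreconnected_univ.image _ (q.fiberι b).continuous.continuousOn
    rw [← hk, ← Set.image_univ] at h1
    haveI : PreconnectedSpace ↥(pullback q (Spec.map ι)) := ⟨k.isEmbedding.isInducing.isPreconnected_image.1 h1⟩
    obtain ⟨x, -, hx⟩ := hfull Set.univ isOpen_univ ⟨z, hz, hzc⟩ b
    obtain ⟨x', -⟩ : x ∈ Set.range k := hk ▸ hx
    exact ⟨⟨x'⟩⟩
  let e1 : pullback q (Spec.map ι) ≅ pullback F w :=
    pullbackLeftPullbackSndIso F tV (Spec.map ι) ≪≫ pullback.congrHom rfl hι
  let e2 : pullback F w ≅ pullback (F.fiberToSpecResidueField η) (Spec.map (CommRingCat.ofHom (algebraMap (U.residueField η) L))) :=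
    (pullbackLeftPullbackSndIso F (U.fromSpecResidueField η) _).symm
  exact (e1 ≪≫ e2).hom.homeomorph.connectedSpace_iff.mp hconn

theorem subsingleton_generization (S : SpecialFibre g h u) {η : U} (hη : η ⤳ u) (K : Type u) [Field K]
    (t : Spec (CommRingCat.of K) ⟶ U) (ht : t (IsLocalRing.closedPoint K) = η) :
    Subsingleton ↥(pullback h t) := by
  by_cases hne : η = u
  · exact S.radicial K t (ht.trans hne)
  haveI := geometricallyConnected_generization S hη hne
  obtain ⟨ψ, rfl⟩ := exists_eq_Spec t ht
  let t := Spec.map ψ ≫ U.fromSpecResidueField η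
  have hcs : ConnectedSpace ↥(pullback ((g ≫ h).fiberToSpecResidueField η) (Spec.map ψ)) :=
    GeometricallyConnected.geometrically_connectedSpace (f := (g ≫ h).fiberToSpecResidueField η) _ _ _
      (.of_hasPullback _ _)
  haveI : ConnectedSpace ↥(pullback (g ≫ h) t) :=
    (pullbackLeftPullbackSndIso (g ≫ h) (U.fromSpecResidueField η) (Spec.map ψ)).hom.homeomorph.connectedSpace_iff.mp hcs
  let e := pullbackRightPullbackFstIso h t g
  let j := e.inv ≫ pullback.snd g (pullback.fst h t)
  haveI : Surjective j := inferInstance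
  haveI : LocallyQuasiFinite (pullback.snd h t) := MorphismProperty.pullback_snd _ _ inferInstance
  haveI : DiscreteTopology ↥(pullback h t) := by
    have hd := (pullback.snd h t).isDiscrete_preimage_singleton (IsLocalRing.closedPoint K)
    rw [show (pullback.snd h t) ⁻¹' {IsLocalRing.closedPoint K} = Set.univ from
      Set.eq_univ_of_forall fun x => Subsingleton.elim _ _] at hd
    exact isDiscrete_univ_iff.1 hd
  haveI : ConnectedSpace ↥(pullback h t) := GeomSep.connectedSpace_of_surjective j.continuous j.surjective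
  exact PreconnectedSpace.trivial_of_discrete (X := ↥(pullback h t))

/-- Nearby fibres of the finite piece are radicial. -/
theorem exists_nhd (S : SpecialFibre g h u) :
    ∃ W ∈ nhds u, ∀ z ∈ W, ∀ (K : Type u) [Field K] (t : Spec (CommRingCat.of K) ⟶ U),
      t (IsLocalRing.closedPoint K) = z → Subsingleton ↥(pullback h t) := by
  let D : (pullback h h).Opens := ⟨(Set.range (pullback.diagonal h))ᶜ,
    (pullback.diagonal h).isClosedEmbedding.isClosed_range.isOpen_compl⟩
  let d : (D : Scheme.{u}) ⟶ U := D.ι ≫ pullback.fst h h ≫ h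
  haveI : IsLocallyNoetherian P := LocallyOfFiniteType.isLocallyNoetherian h
  haveI : IsLocallyNoetherian (pullback h h) := LocallyOfFiniteType.isLocallyNoetherian (pullback.fst h h)
  haveI : QuasiCompact d := inferInstance
  haveI : LocallyOfFiniteType d := inferInstance
  haveI : LocallyOfFinitePresentation d := inferInstance
  have hT : Topology.IsLocallyConstructible (d '' Set.univ)ᶜ := fun x => by
    obtain ⟨V, hV, hVo, hc⟩ := d.isLocallyConstructible_image Topology.IsLocallyConstructible.univ x
    exact ⟨V, hV, hVo, by rw [Set.preimage_compl]; exact hc.compl⟩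
  refine ⟨(d '' Set.univ)ᶜ, FibDim.mem_nhds_of_generizations hT fun η hη => ?_, fun z hz K _ t ht => ?_⟩
  · rintro ⟨p, -, hp⟩
    let κ := (pullback h h).residueField (D.ι p)
    let s := (pullback h h).fromSpecResidueField (D.ι p)
    let t' : Spec κ ⟶ U := s ≫ pullback.fst h h ≫ h
    have hpt : ∀ x, s x = D.ι p := fun x => Scheme.fromSpecResidueField_apply _ _
    have ht' : t' (IsLocalRing.closedPoint κ) = η := by
      show (s ≫ pullback.fst h h ≫ h) _ = η
      rw [Scheme.Hom.comp_apply, hpt, ← hp, Scheme.Hom.comp_apply, Scheme.Hom.comp_apply]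
      rfl
    haveI := subsingleton_generization S hη κ t' ht'
    have hc : (s ≫ pullback.snd h h) ≫ h = 𝟙 _ ≫ t' := by simp [t', pullback.condition]
    have hc' : (s ≫ pullback.fst h h) ≫ h = 𝟙 _ ≫ t' := by simp [t']
    have hαβ := sections_eq (pullback.snd h t') (pullback.lift (s ≫ pullback.fst h h) (𝟙 _) hc')
      (pullback.lift (s ≫ pullback.snd h h) (𝟙 _) hc) (pullback.lift_snd _ _ _) (pullback.lift_snd _ _ _)
    have h1 : s ≫ pullback.fst h h = s ≫ pullback.snd h h := by
      have := congrArg (· ≫ pullback.fst h t') hαβ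
      simpa only [pullback.lift_fst] using this
    have h2 : s = (s ≫ pullback.fst h h) ≫ pullback.diagonal h := by
      apply pullback.hom_ext <;> simp [h1]
    refine p.2 ⟨(s ≫ pullback.fst h h) (IsLocalRing.closedPoint κ), ?_⟩
    rw [← Scheme.Hom.comp_apply, ← h2, hpt]
    rfl
  · refine subsingleton_pullback_of_unique h t fun E _ α β s hα hβ => ?_
    refine eq_of_subsingleton_of_diagonal h α β (hα.trans hβ.symm) ?_
    by_contra hd
    refine hz ⟨⟨_, hd⟩, trivial, ?_⟩
    have hz' : (α ≫ h) (IsLocalRing.closedPoint E) = z := by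
      rw [hα, Scheme.Hom.comp_apply, Subsingleton.elim (s (IsLocalRing.closedPoint E)) (IsLocalRing.closedPoint K)]
      exact ht
    refine Eq.trans ?_ hz'
    exact congrArg (fun m : Spec (CommRingCat.of E) ⟶ U => m (IsLocalRing.closedPoint E))
      (pullback.lift_fst_assoc α β (hα.trans hβ.symm) h)

end

end Groth.Agent.Stein5
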