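import Mathlib
import Groth.Agent.Stein5.Main
import Groth.Agent.Stein5.Pieces
import Groth.Agent.S9778
import Groth.Agent.S1335

/-!
# Local constancy of the geometric number of connected components
-/

set_option autoImplicit false
set_option backward.isDefEq.respectTransparency false
set_option backward.isDefEq.respectTransparency.types false
set_option maxHeartbeats 1000000
universe u

open AlgebraicGeometry CategoryTheory CategoryTheory.Limits

namespace Groth.Agent.Stein5

theorem eq_of_pi {P U : Scheme.{u}} (h : P ⟶ U) (v : P)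
    (hpi : letI := (h.residueFieldMap v).hom.toAlgebra
      IsPurelyInseparable (U.residueField (h v)) (P.residueField v))
    {E : Type u} [Field E] (α β : Spec (CommRingCat.of E) ⟶ P) (hα : α (IsLocalRing.closedPoint E) = v)
    (hβ : β (IsLocalRing.closedPoint E) = v) (heq : α ≫ h = β ≫ h) : α = β := by
  obtain ⟨φ, rfl⟩ := exists_eq_Spec α hα
  obtain ⟨ψ, rfl⟩ := exists_eq_Spec β hβ
  rw [Category.assoc, Category.assoc, ← Scheme.Hom.SpecMap_residueFieldMap_fromSpecResidueField,
    ← Category.assoc, ← Category.assoc, ← Spec.map_comp, ← Spec.map_comp, cancel_mono] at heq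
  have h2 := congrArg CommRingCat.Hom.hom (Spec.map_injective heq)
  letI := (h.residueFieldMap v).hom.toAlgebra
  haveI := hpi
  congr 2
  ext1
  exact IsPurelyInseparable.injective_comp_algebraMap (U.residueField (h v)) (P.residueField v) E h2

theorem isUnivOpenAt_openImmersion_comp {Z X Y : Scheme.{u}} (j : Z ⟶ X) [IsOpenImmersion j] (f : X ⟶ Y) (z : Z)
    (h : EGA43.IsUnivOpenAt f (j.base z)) : EGA43.IsUnivOpenAt (j ≫ f) z := by
  intro Y' e z' hz' N hN
  let j' : pullback (j ≫ f) e ⟶ pullback f e := pullback.lift (pullback.fst (j ≫ f) e ≫ j) (pullback.snd (j ≫ f) e)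
    (by rw [Category.assoc, pullback.condition])
  have h1 : j' ≫ pullback.fst f e = pullback.fst (j ≫ f) e ≫ j := pullback.lift_fst _ _ _
  have h2 : j' ≫ pullback.snd f e = pullback.snd (j ≫ f) e := pullback.lift_snd _ _ _
  have hsq : IsPullback (pullback.fst (j ≫ f) e) j' j (pullback.fst f e) := by
    refine IsPullback.of_bot (v₂₁ := pullback.snd f e) ?_ h1.symm (IsPullback.of_hasPullback f e)
    rw [h2]
    exact IsPullback.of_hasPullback (j ≫ f) e
  haveI : IsOpenImmersion j' := MorphismProperty.of_isPullback hsq inferInstance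
  have hq : (pullback.fst f e).base (j'.base z') = j.base z := by
    rw [← Scheme.Hom.comp_apply, h1, Scheme.Hom.comp_apply, hz']
  have := h Y' e (j'.base z') hq (j'.base '' N) (j'.isOpenEmbedding.isOpenMap.image_mem_nhds hN)
  have he : (pullback.snd f e).base (j'.base z') = (pullback.snd (j ≫ f) e).base z' := by
    rw [← Scheme.Hom.comp_apply, h2]
  rw [he, ← Set.image_comp] at this
  refine Filter.mem_of_superset this ?_
  rintro _ ⟨w, hw, rfl⟩
  exact ⟨w, hw, by rw [Function.comp_apply, ← Scheme.Hom.comp_apply, h2]⟩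

variable {X Y : Scheme.{u}} (f : X ⟶ Y) [IsProper f] [IsLocallyNoetherian Y] (y : Y)

theorem const_nhd (hopen : ∀ x : X, f.base x = y → EGA43.IsUnivOpenAt f x)
    (hred : GeometricallyReduced (f.fiberToSpecResidueField y)) :
    ∃ V ∈ nhds y, ∀ z ∈ V, MoreMor.nGeomConnComp f z = MoreMor.nGeomConnComp f y := by
  classical
  let h0 := f.fromNormalization
  let g0 := f.toNormalization
  have hg0h0 : g0 ≫ h0 = f := f.toNormalization_fromNormalization
  haveI : IsFinite h0 := Groth.Agent.S1297.result f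
  haveI : IsLocallyNoetherian f.normalization := LocallyOfFiniteType.isLocallyNoetherian h0
  haveI : IsProper g0 := isProper_toNormalization f
  haveI : GeometricallyConnected g0 := geometricallyConnected_toNormalization f
  obtain ⟨n, ⟨en⟩⟩ := (h0.finite_preimage_singleton y).to_subtype.exists_equiv_fin
  let x : Fin n → ↥f.normalization := fun i => (en.symm i).1
  have hx : ∀ i, h0 (x i) = y := fun i => (en.symm i).2
  obtain ⟨U, e, u, he, heu, J, hJ, C, v, hC, hdisj, hprop, hcover⟩ := Groth.Agent.S9778.result h0 y x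
    (Subtype.val_injective.comp en.symm.injective) hx (fun i => h0.quasiFiniteAt _)
  haveI := he
  haveI : IsLocallyNoetherian U := LocallyOfFiniteType.isLocallyNoetherian e
  let hU := pullback.snd h0 e
  let q : pullback f e ⟶ pullback h0 e := pullback.lift (pullback.fst f e ≫ g0) (pullback.snd f e)
    (by rw [Category.assoc, hg0h0, pullback.condition])
  have hq1 : q ≫ pullback.fst h0 e = pullback.fst f e ≫ g0 := pullback.lift_fst _ _ _
  have hq2 : q ≫ hU = pullback.snd f e := pullback.lift_snd _ _ _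
  have hsq : IsPullback (pullback.fst f e) q g0 (pullback.fst h0 e) := by
    refine IsPullback.of_bot (v₂₁ := hU) ?_ hq1.symm (IsPullback.of_hasPullback h0 e)
    rw [hq2, hg0h0]
    exact IsPullback.of_hasPullback f e
  haveI : IsProper q := MorphismProperty.of_isPullback hsq inferInstance
  haveI : GeometricallyConnected q := MorphismProperty.of_isPullback hsq inferInstance
  haveI : Surjective q := inferInstance
  let I := Σ i, J i
  haveI : Finite I := inferInstance
  let P : I → (pullback h0 e).Opens := fun p => C p.1 p.2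
  haveI hfinP : ∀ p : I, IsFinite ((P p).ι ≫ hU) := fun p => (hprop p.1 p.2).2.1
  have hvu : ∀ p : I, hU (v p.1 p.2) = u := fun p => (hprop p.1 p.2).2.2.1
  have hS : ∀ p : I, SpecialFibre (q ∣_ P p) ((P p).ι ≫ hU) u := by
    intro p
    obtain ⟨hvP, -, -, huniq, hpi, -⟩ := hprop p.1 p.2
    have hcomp : (q ∣_ P p) ≫ (P p).ι ≫ hU = (q ⁻¹ᵁ P p).ι ≫ pullback.snd f e := by
      rw [← Category.assoc, morphismRestrict_ι, Category.assoc, hq2]
    refine ⟨?_, ?_, ?_, ⟨⟨v p.1 p.2, hvP⟩, ?_⟩⟩
    · intro z hz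
      rw [hcomp] at hz ⊢
      refine isUnivOpenAt_openImmersion_comp _ _ z (isUnivOpenAt_bc f e _ (hopen _ ?_))
      rw [← heu, ← hz, ← Scheme.Hom.comp_apply, pullback.condition]
      rfl
    · intro K _ t ht
      rw [hcomp]
      have hte : (t ≫ e) (IsLocalRing.closedPoint K) = y := by rw [Scheme.Hom.comp_apply, ht, heu]
      obtain ⟨ψ, hψ⟩ := exists_eq_Spec (t ≫ e) hte
      haveI hr : IsReduced (pullback (f.fiberToSpecResidueField y) (Spec.map ψ)) :=
        GeometricallyReduced.geometrically_isReduced (f := f.fiberToSpecResidueField y) _ _ _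
          (.of_hasPullback _ _)
      let ε1 : pullback (f.fiberToSpecResidueField y) (Spec.map ψ) ≅ pullback f (t ≫ e) :=
        pullbackLeftPullbackSndIso f (Y.fromSpecResidueField y) (Spec.map ψ) ≪≫ pullback.congrHom rfl hψ
      haveI : IsReduced (pullback f (t ≫ e)) := isReduced_of_isOpenImmersion ε1.inv
      haveI : IsReduced (pullback (pullback.snd f e) t) :=
        isReduced_of_isOpenImmersion (pullbackLeftPullbackSndIso f e t).hom
      let j : pullback ((q ⁻¹ᵁ P p).ι ≫ pullback.snd f e) t ⟶ pullback (pullback.snd f e) t :=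
        pullback.map _ _ _ _ (q ⁻¹ᵁ P p).ι (𝟙 _) (𝟙 _) (by simp) (by simp)
      haveI : IsOpenImmersion j := by
        have hsqj : IsPullback (pullback.fst ((q ⁻¹ᵁ P p).ι ≫ pullback.snd f e) t) j (q ⁻¹ᵁ P p).ι
            (pullback.fst (pullback.snd f e) t) := by
          refine IsPullback.of_bot (v₂₁ := pullback.snd (pullback.snd f e) t) ?_ (by simp [j])
            (IsPullback.of_hasPullback (pullback.snd f e) t)
          simpa [j] using IsPullback.of_hasPullback ((q ⁻¹ᵁ P p).ι ≫ pullback.snd f e) t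
        exact MorphismProperty.of_isPullback hsqj inferInstance
      exact isReduced_of_isOpenImmersion j
    · intro K _ t ht
      refine subsingleton_pullback_of_unique _ t fun E _ α β s hα hβ => ?_
      have hpt : ∀ γ : Spec (CommRingCat.of E) ⟶ (P p : Scheme.{u}), γ ≫ (P p).ι ≫ hU = s ≫ t →
          (γ ≫ (P p).ι) (IsLocalRing.closedPoint E) = v p.1 p.2 := by
        intro γ hγ
        refine huniq _ (by rw [Scheme.Hom.comp_apply]; exact (γ _).2) ?_
        rw [← Scheme.Hom.comp_apply, Category.assoc, hγ, Scheme.Hom.comp_apply,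
          Subsingleton.elim (s (IsLocalRing.closedPoint E)) (IsLocalRing.closedPoint K)]
        exact ht
      rw [← cancel_mono (P p).ι]
      refine eq_of_pi hU (v p.1 p.2) hpi _ _ (hpt α hα) (hpt β hβ) ?_
      rw [Category.assoc, Category.assoc, hα, hβ]
    · exact hvu p
  choose W hW hWs using fun p : I => exists_nhd (hS p)
  have himg : ∀ p : I, hU.base '' (P p : Set ↑(pullback h0 e)) ∈ nhds u := fun p => by
    obtain ⟨h1, -, -, -, -, h6⟩ := hprop p.1 p.2
    have h0open : EGA43.IsUnivOpenAt h0 ((pullback.fst h0 e).base (v p.1 p.2)) :=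
      isUnivOpenAt_fromNormalization f y hopen _ (by rw [h6]; exact hx _)
    have := h0open U e (v p.1 p.2) rfl (P p : Set ↑(pullback h0 e)) ((P p).2.mem_nhds h1)
    rwa [show (pullback.snd h0 e).base (v p.1 p.2) = u from hvu p] at this
  let R : Set ↥U := (hU '' (⋃ p : I, (P p : Set ↑(pullback h0 e)))ᶜ)ᶜ
  have hR : R ∈ nhds u := by
    refine (IsOpen.mem_nhds ?_ ?_)
    · exact (hU.isClosedMap _ (isOpen_iUnion fun p => (P p).2).isClosed_compl).isOpen_compl
    · rintro ⟨w, hw, hwu⟩
      have hy : h0 (pullback.fst h0 e w) = y := by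
        rw [← Scheme.Hom.comp_apply, pullback.condition, Scheme.Hom.comp_apply]
        exact (congrArg e.base hwu).trans heu
      obtain ⟨i, hi⟩ : ∃ i, x i = pullback.fst h0 e w := ⟨en ⟨_, hy⟩, by simp [x]⟩
      obtain ⟨j, hj⟩ := hcover w i hwu hi.symm
      exact hw (Set.mem_iUnion.2 ⟨⟨i, j⟩, hj⟩)
  let M : Set ↥U := R ∩ (⋂ p, W p) ∩ ⋂ p, hU.base '' (P p : Set ↑(pullback h0 e))
  have hM : M ∈ nhds u :=
    Filter.inter_mem (Filter.inter_mem hR (Filter.iInter_mem.2 hW)) (Filter.iInter_mem.2 himg)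
  have hcount : ∀ z ∈ M, MoreMor.nGeomConnComp hU z = (Nat.card I : ℕ) := by
    intro z hz
    haveI := MorLib.GP.discreteTopology_geomFiber hU z
    haveI := finite_geomFiber hU z
    rw [MoreMor.nGeomConnComp, MorLib.GP.card_connectedComponents_of_discrete, ← ENat.card_eq_coe_natCard]
    have hover : ∀ a, hU (Lsc5.geomπ hU z a) = z := fun a => by
      have : Lsc5.geomπ hU z a ∈ Set.range (Lsc5.geomπ hU z) := ⟨a, rfl⟩
      rw [Lsc5.range_geomπ] at this
      exact this
    have hex : ∀ a, ∃ p : I, Lsc5.geomπ hU z a ∈ P p := fun a => by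
      by_contra hno
      exact hz.1.1 ⟨_, fun hm => hno (Set.mem_iUnion.1 hm), hover a⟩
    choose idx hidx using hex
    have huniqP : ∀ p p' : I, ∀ w, w ∈ P p → w ∈ P p' → p = p' := fun p p' w hw hw' => by
      obtain ⟨h1, h2⟩ := hdisj p.1 p.2 p'.1 p'.2 ⟨w, hw, hw'⟩
      exact Sigma.ext h1 h2
    refine ENat.card_congr (Equiv.ofBijective idx ⟨fun a b hab => ?_, fun p => ?_⟩)
    · let p := idx a
      let t0 := Lsc5.sepPt z ≫ U.fromSpecResidueField z
      have ht0 : t0 (IsLocalRing.closedPoint (SeparableClosure (U.residueField z))) = z := by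
        rw [Scheme.Hom.comp_apply, Scheme.fromSpecResidueField_apply]
      haveI : Subsingleton ↥(pullback ((P p).ι ≫ hU) t0) :=
        hWs p z (Set.mem_iInter.1 hz.1.2 p) _ t0 ht0
      let j : pullback ((P p).ι ≫ hU) t0 ⟶ MoreMor.geomFiber hU z :=
        (isPullback_geomπ hU z).lift (pullback.fst ((P p).ι ≫ hU) t0 ≫ (P p).ι) (pullback.snd ((P p).ι ≫ hU) t0)
          (by rw [Category.assoc, pullback.condition])
      have hj1 : j ≫ Lsc5.geomπ hU z = pullback.fst ((P p).ι ≫ hU) t0 ≫ (P p).ι :=
        (isPullback_geomπ hU z).lift_fst _ _ _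
      have hj2 := (isPullback_geomπ hU z).lift_snd (pullback.fst ((P p).ι ≫ hU) t0 ≫ (P p).ι)
        (pullback.snd ((P p).ι ≫ hU) t0) (by rw [Category.assoc, pullback.condition])
      have hsqj : IsPullback (pullback.fst ((P p).ι ≫ hU) t0) j (P p).ι (Lsc5.geomπ hU z) := by
        refine IsPullback.of_bot (v₂₁ := pullback.snd (hU.fiberToSpecResidueField z) (Lsc5.sepPt z)) ?_ hj1.symm
          (isPullback_geomπ hU z)
        rw [hj2]
        exact IsPullback.of_hasPullback _ _
      have hr : Set.range j = Lsc5.geomπ hU z ⁻¹' Set.range (P p).ι := by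
        rw [← hsqj.isoPullback_hom_snd, Scheme.Hom.comp_base, TopCat.coe_comp, Set.range_comp,
          Set.range_eq_univ.mpr (hsqj.isoPullback.hom.surjective), Set.image_univ]
        exact Scheme.Pullback.range_snd _ _
      rw [Scheme.Opens.range_ι] at hr
      obtain ⟨a', ha'⟩ : a ∈ Set.range j := hr ▸ hidx a
      obtain ⟨b', hb'⟩ : b ∈ Set.range j := hr ▸ (show Lsc5.geomπ hU z b ∈ P (idx a) from hab ▸ hidx b)
      rw [← ha', ← hb', Subsingleton.elim a' b']
    · obtain ⟨w, hw, hwz⟩ := Set.mem_iInter.1 hz.2 p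
      obtain ⟨a, ha⟩ := Lsc5.exists_geomπ_eq hU hwz
      exact ⟨a, huniqP _ _ _ (hidx a) (ha ▸ hw)⟩
  obtain ⟨O, hOM, hO, huO⟩ := mem_nhds_iff.1 hM
  refine ⟨e '' O, (e.isOpenMap _ hO).mem_nhds ⟨u, huO, heu⟩, ?_⟩
  rintro _ ⟨z, hz, rfl⟩
  rw [← heu, nGeomConnComp_fromNormalization f, nGeomConnComp_fromNormalization f,
    ← S1335.result h0 hU (pullback.fst h0 e) e (IsPullback.of_hasPullback h0 e) z,
    ← S1335.result h0 hU (pullback.fst h0 e) e (IsPullback.of_hasPullback h0 e) u,
    hcount z (hOM hz), hcount u (hOM huO)]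

end Groth.Agent.Stein5
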