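import Mathlib
import Groth.Agent.Stein5.Const
import Groth.Agent.Stein5.OneComp
import Groth.Agent.Lsc5.Main
import Groth.Agent.LimSm.Model
import Groth.Agent.LimSm.Flat
import Groth.Agent.ConsPropLib.CoreProper
import Groth.Agent.S9735

/-!
# The geometric number of connected components for proper flat morphisms of finite presentation
-/

set_option autoImplicit false
set_option backward.isDefEq.respectTransparency false
set_option backward.isDefEq.respectTransparency.types false
universe u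

open AlgebraicGeometry CategoryTheory CategoryTheory.Limits

namespace Groth.Agent.Stein5

variable {X Y : Scheme.{u}} (f : X ⟶ Y) [IsProper f] [Flat f] [LocallyOfFinitePresentation f]

/-- A Noetherian model near a point. -/
theorem exists_model (y : Y) :
    ∃ (V : Y.Opens) (_ : y ∈ V) (Y₀ X₀ : Scheme.{u}) (_ : IsLocallyNoetherian Y₀) (f₀ : X₀ ⟶ Y₀)
      (_ : IsProper f₀) (_ : Flat f₀) (_ : LocallyOfFinitePresentation f₀) (g : (V : Scheme.{u}) ⟶ Y₀)
      (g' : (↑(f ⁻¹ᵁ V) : Scheme.{u}) ⟶ X₀), IsPullback g' (f ∣_ V) f₀ g := by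
  obtain ⟨V, hV, hyV, -⟩ := exists_isAffineOpen_mem_and_subset (X := Y) (x := y) (U := ⊤) trivial
  haveI : IsAffine (V : Scheme.{u}) := hV
  let fV := (f ∣_ V) ≫ hV.isoSpec.hom
  haveI : IsProper (f ∣_ V) := MorphismProperty.of_isPullback (isPullback_morphismRestrict f V).flip inferInstance
  haveI : Flat (f ∣_ V) := MorphismProperty.of_isPullback (isPullback_morphismRestrict f V).flip inferInstance
  haveI : LocallyOfFinitePresentation (f ∣_ V) :=
    MorphismProperty.of_isPullback (isPullback_morphismRestrict f V).flip inferInstance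
  haveI : IsProper fV := inferInstanceAs (IsProper (_ ≫ _))
  haveI : Flat fV := inferInstanceAs (Flat (_ ≫ _))
  haveI : LocallyOfFinitePresentation fV := inferInstanceAs (LocallyOfFinitePresentation (_ ≫ _))
  obtain ⟨A₀, hA, X₀, f₀, g, h1, h2, h3, h4, h5, h6⟩ := Groth.Agent.LimSm.exists_model_over_fg
    (P := @Flat) (P' := @IsProper) (Q := @LocallyOfFinitePresentation) (Q' := @LocallyOfFinitePresentation)
    Groth.Agent.LimSm.core_flat Groth.Agent.ConsPropLib.core_isProper (fun _ h => h) (fun _ h => h)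
    Γ(Y, V) fV inferInstance inferInstance
  haveI : Algebra.FiniteType ℤ A₀ := (Subalgebra.fg_iff_finiteType A₀).1 hA
  haveI : IsNoetherianRing A₀ := Algebra.FiniteType.isNoetherianRing ℤ A₀
  refine ⟨V, hyV, Spec (CommRingCat.of A₀), X₀, inferInstance, f₀, h2, h1, h3,
    hV.isoSpec.hom ≫ Spec.map (CommRingCat.ofHom (algebraMap A₀ Γ(Y, V))), g, ?_⟩
  exact h6.of_iso (Iso.refl _) (Iso.refl _) hV.isoSpec.symm (Iso.refl _) (by simp) (by simp [fV]) (by simp) (by simp)

theorem lowerSemicontinuous : LowerSemicontinuous (fun y : Y => MoreMor.nGeomConnComp f y) := by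
  intro y a ha
  obtain ⟨V, hyV, Y₀, X₀, _, f₀, _, _, _, g, g', hsq⟩ := exists_model f y
  haveI : UniversallyOpen f₀ := inferInstance
  haveI : IsFinite f₀.fromNormalization := Groth.Agent.S1297.result f₀
  have hn : ∀ z : (V : Scheme.{u}), MoreMor.nGeomConnComp f (V.ι z) = MoreMor.nGeomConnComp f₀ (g z) := fun z => by
    rw [← S1335.result f (f ∣_ V) (f ⁻¹ᵁ V).ι V.ι (isPullback_morphismRestrict f V).flip z,
      S1335.result f₀ (f ∣_ V) g' g hsq z]
  let v : (V : Scheme.{u}) := ⟨y, hyV⟩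
  have hyv : V.ι v = y := rfl
  obtain ⟨W, hW, hle⟩ := Lsc5.lsc_at f₀.fromNormalization (g v) (fun p hp =>
    isUnivOpenAt_fromNormalization f₀ _ (fun x _ => Lsc5.isUnivOpenAt_of_universallyOpen f₀ x) p hp)
  have hpre : g.base ⁻¹' W ∈ nhds v := g.continuous.continuousAt hW
  refine Filter.mem_of_superset (V.ι.isOpenEmbedding.isOpenMap.image_mem_nhds hpre) ?_
  rintro _ ⟨z, hz, rfl⟩
  show a < MoreMor.nGeomConnComp f (V.ι z)
  refine lt_of_lt_of_le ha ?_
  show MoreMor.nGeomConnComp f y ≤ _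
  rw [← hyv, hn, hn, nGeomConnComp_fromNormalization f₀,
    nGeomConnComp_fromNormalization f₀]
  exact hle (g z) hz

theorem const_nhd_fp (y : Y) (hred : GeometricallyReduced (f.fiberToSpecResidueField y)) :
    ∃ W ∈ nhds y, ∀ z ∈ W, MoreMor.nGeomConnComp f z = MoreMor.nGeomConnComp f y := by
  obtain ⟨V, hyV, Y₀, X₀, _, f₀, _, _, _, g, g', hsq⟩ := exists_model f y
  haveI : UniversallyOpen f₀ := inferInstance
  have hn : ∀ z : (V : Scheme.{u}), MoreMor.nGeomConnComp f (V.ι z) = MoreMor.nGeomConnComp f₀ (g z) := fun z => by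
    rw [← S1335.result f (f ∣_ V) (f ⁻¹ᵁ V).ι V.ι (isPullback_morphismRestrict f V).flip z,
      S1335.result f₀ (f ∣_ V) g' g hsq z]
  let v : (V : Scheme.{u}) := ⟨y, hyV⟩
  have h1 : v ∈ {y' : (V : Scheme.{u}) | GeometricallyReduced ((f ∣_ V).fiberToSpecResidueField y')} := by
    rw [S9735.result f V.ι (f ∣_ V) (f ⁻¹ᵁ V).ι (isPullback_morphismRestrict f V).flip]
    exact hred
  rw [S9735.result f₀ g (f ∣_ V) g' hsq] at h1
  obtain ⟨W, hW, hc⟩ := const_nhd f₀ (g v) (fun x _ => Lsc5.isUnivOpenAt_of_universallyOpen f₀ x) h1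
  have hpre : g.base ⁻¹' W ∈ nhds v := g.continuous.continuousAt hW
  refine ⟨V.ι.base '' (g.base ⁻¹' W), V.ι.isOpenEmbedding.isOpenMap.image_mem_nhds hpre, ?_⟩
  rintro _ ⟨z, hz, rfl⟩
  have hyv : V.ι v = y := rfl
  rw [← hyv, hn, hn]
  exact hc (g z) hz

end Groth.Agent.Stein5
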